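import Mathlib

/-! Base change of Azumaya algebras (S19588). -/

open TensorProduct MulOpposite

universe u v w

namespace Groth.Agent.Helper7.Azumaya

section HomBC

variable (R : Type*) [CommRing R] (S : Type*) [CommRing S] [Algebra R S]
  (M N : Type*) [AddCommGroup M] [Module R M] [AddCommGroup N] [Module R N]
  [Module.Finite R M] [Module.Projective R M]

/-- base change of `Hom` out of a finite projective module -/
noncomputable def homBC : S ⊗[R] (M →ₗ[R] N) ≃ₗ[R] (S ⊗[R] M →ₗ[S] S ⊗[R] N) :=
  (TensorProduct.congr (LinearEquiv.refl R S) (dualTensorHomEquiv R M N).symm) ≪≫ₗ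
    (TensorProduct.leftComm R S (Module.Dual R M) N) ≪≫ₗ
    (dualTensorHomEquiv R M (S ⊗[R] N)) ≪≫ₗ
    ((LinearMap.liftBaseChangeEquiv S (R := R) (M := M) (N := S ⊗[R] N)).restrictScalars R)

theorem homBC_eq (x : S ⊗[R] (M →ₗ[R] N)) :
    homBC R S M N x = LinearMap.tensorProduct R S M N x := by
  induction x using TensorProduct.induction_on with
  | zero => simp
  | add a b ha hb => rw [map_add, map_add, ha, hb]
  | tmul s f =>
    obtain ⟨z, rfl⟩ := (dualTensorHomEquiv R M N).surjective f
    induction z using TensorProduct.induction_on with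
    | zero => simp
    | add a b ha hb =>
      rw [map_add, tmul_add, map_add, map_add, ha, hb]
    | tmul φ n =>
      ext m
      have h1 : LinearMap.tensorProduct R S M N (s ⊗ₜ dualTensorHom R M N (φ ⊗ₜ n)) =
          s • (dualTensorHom R M N (φ ⊗ₜ n)).baseChange S := rfl
      have h2 : homBC R S M N (s ⊗ₜ (dualTensorHomEquiv R M N) (φ ⊗ₜ n)) =
          LinearMap.liftBaseChange S (dualTensorHom R M (S ⊗[R] N) (φ ⊗ₜ (s ⊗ₜ n))) := by
        simp [homBC]
      rw [h2]
      simp only [dualTensorHomEquiv, LinearEquiv.ofBijective_apply]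
      rw [h1]
      simp [smul_tmul', tmul_smul]

theorem tensorProduct_bijective : Function.Bijective (LinearMap.tensorProduct R S M N) := by
  have : (LinearMap.tensorProduct R S M N : _ → _) = homBC R S M N := by
    ext x
    rw [homBC_eq]
  rw [this]
  exact (homBC R S M N).bijective

end HomBC

section Trace

variable (R : Type*) [CommRing R] (M : Type*) [AddCommGroup M] [Module R M]
  [Module.Finite R M] [Module.Projective R M] [FaithfulSMul R M]

/-- the trace ideal of a faithful finite projective module is the unit ideal -/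
theorem exists_contractLeft_eq_one : ∃ z : Module.Dual R M ⊗[R] M, contractLeft R M z = 1 := by
  let T : Ideal R := LinearMap.range (contractLeft R M)
  obtain ⟨n, f, g, hf, hg, hfg⟩ := Module.Finite.exists_comp_eq_id_of_projective R M
  have hle : (⊤ : Submodule R M) ≤ T • (⊤ : Submodule R M) := by
    intro x _
    have hx : x = f (g x) := by
      have := congrArg (fun F => F x) hfg
      simpa using this.symm
    have hgx : g x = ∑ i, (g x i) • (Pi.single i (1 : R) : Fin n → R) := by
      ext j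
      simp [Finset.sum_apply, Pi.single_apply]
    rw [hx, hgx, map_sum]
    refine Submodule.sum_mem _ (fun i _ => ?_)
    rw [map_smul]
    refine Submodule.smul_mem_smul ?_ Submodule.mem_top
    refine ⟨((LinearMap.proj i) ∘ₗ g : M →ₗ[R] R) ⊗ₜ x, ?_⟩
    simp [contractLeft_apply]
  obtain ⟨r, hr1, hr0⟩ := Submodule.exists_sub_one_mem_and_smul_eq_zero_of_fg_of_le_smul T
    (⊤ : Submodule R M) Module.Finite.fg_top hle
  have hr : r = 0 := by
    apply FaithfulSMul.eq_of_smul_eq_smul (α := M)
    intro m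
    rw [hr0 m Submodule.mem_top, zero_smul]
  rw [hr, zero_sub] at hr1
  have h1 : (1 : R) ∈ T := by
    have := T.neg_mem hr1
    simpa using this
  exact h1

end Trace

section BC

variable (R : Type u) [CommRing R] (S : Type v) [CommRing S] [Algebra R S]
  (A : Type w) [Ring A] [Algebra R A] [IsAzumaya R A]

theorem faithful_baseChange : FaithfulSMul S (S ⊗[R] A) := by
  rw [faithfulSMul_iff_algebraMap_injective, injective_iff_map_eq_zero]
  intro s hs
  obtain ⟨z, hz⟩ := exists_contractLeft_eq_one R A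
  let L : Module.Dual R A ⊗[R] A →ₗ[R] S :=
    (s • Algebra.linearMap R S) ∘ₗ (contractLeft R A)
  have hL : L = 0 := by
    apply TensorProduct.ext'
    intro φ a
    have h1 : (s ⊗ₜ[R] a : S ⊗[R] A) = 0 := by
      have : (s ⊗ₜ[R] a : S ⊗[R] A) = algebraMap S (S ⊗[R] A) s * (1 ⊗ₜ a) := by
        rw [Algebra.TensorProduct.algebraMap_apply]
        simp
      rw [this, hs, zero_mul]
    have h2 := congrArg (fun y => TensorProduct.rid R S (LinearMap.lTensor S φ y)) h1
    simp only [LinearMap.lTensor_tmul, TensorProduct.rid_tmul, map_zero] at h2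
    simp only [L, LinearMap.coe_comp, Function.comp_apply, contractLeft_apply, LinearMap.smul_apply,
      Algebra.linearMap_apply, LinearMap.zero_apply, smul_eq_mul]
    rw [Algebra.smul_def, mul_comm] at h2
    exact h2
  have := congrArg (fun F => F z) hL
  simpa [L, hz] using this

/-- `S ⊗ Aᵐᵒᵖ ≃ (S ⊗ A)ᵐᵒᵖ` -/
noncomputable def opiso : S ⊗[R] Aᵐᵒᵖ ≃ₗ[S] (S ⊗[R] A)ᵐᵒᵖ :=
  (TensorProduct.AlgebraTensorModule.congr (LinearEquiv.refl S S)
    (opLinearEquiv R (M := A)).symm) ≪≫ₗ (opLinearEquiv S (M := S ⊗[R] A))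

omit [IsAzumaya R A] in
theorem opiso_tmul (s : S) (a : Aᵐᵒᵖ) : opiso R S A (s ⊗ₜ a) = op (s ⊗ₜ a.unop) := rfl

/-- the comparison isomorphism -/
noncomputable def Phi :
    S ⊗[R] (A ⊗[R] Aᵐᵒᵖ) ≃ₗ[S] (S ⊗[R] A) ⊗[S] (S ⊗[R] A)ᵐᵒᵖ :=
  (TensorProduct.AlgebraTensorModule.distribBaseChange R S A Aᵐᵒᵖ) ≪≫ₗ
    (TensorProduct.congr (LinearEquiv.refl S (S ⊗[R] A)) (opiso R S A))

omit [IsAzumaya R A] in
theorem mulLeftRight_comp_Phi :
    (AlgHom.mulLeftRight S (S ⊗[R] A)).toLinearMap ∘ₗ (Phi R S A).toLinearMap =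
      (LinearMap.tensorProduct R S A A) ∘ₗ
        ((AlgHom.mulLeftRight R A).toLinearMap.baseChange S) := by
  ext a a' x
  have h : LinearMap.tensorProduct R S A A ((1 : S) ⊗ₜ AlgHom.mulLeftRight R A (a ⊗ₜ a')) =
      (1 : S) • (AlgHom.mulLeftRight R A (a ⊗ₜ a')).baseChange S := rfl
  simp [Phi, opiso_tmul, -LinearMap.tensorProduct_apply, h]

theorem baseChange : IsAzumaya S (S ⊗[R] A) := by
  have := faithful_baseChange R S A
  refine ⟨?_⟩
  have h1 := mulLeftRight_comp_Phi R S A
  have hbij : Function.Bijective ((LinearMap.tensorProduct R S A A) ∘ₗ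
        ((AlgHom.mulLeftRight R A).toLinearMap.baseChange S)) := by
    rw [LinearMap.coe_comp]
    refine (tensorProduct_bijective R S A A).comp ?_
    rw [LinearMap.baseChange_eq_ltensor]
    exact TensorProduct.map_bijective Function.bijective_id IsAzumaya.bij
  rw [← h1, LinearMap.coe_comp] at hbij
  exact (Function.Bijective.of_comp_iff _ (Phi R S A).bijective).mp hbij

end BC

end Groth.Agent.Helper7.Azumaya
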