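import Mathlib

/-! `End_R(P)` is Azumaya for `P` faithful finite projective (S19589). -/

open TensorProduct MulOpposite

universe u v

namespace Groth.Agent.Helper7.Azumaya

section Transpose

variable (R : Type*) [CommRing R] (M M' : Type*) [AddCommGroup M] [Module R M]
  [AddCommGroup M'] [Module R M'] [Module.IsReflexive R M']

theorem transpose_bijective :
    Function.Bijective (Module.Dual.transpose (R := R) (M := M) (M' := M')) := by
  constructor
  · rw [injective_iff_map_eq_zero]
    intro u hu
    ext m
    apply (Module.evalEquiv R M').injective
    ext l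
    have := congrArg (fun F => F l m) hu
    simpa [Module.Dual.transpose_apply] using this
  · intro h
    refine ⟨(Module.evalEquiv R M').symm.toLinearMap ∘ₗ (Module.Dual.transpose h) ∘ₗ
      (Module.Dual.eval R M), ?_⟩
    ext l m
    simp [Module.Dual.transpose_apply, Module.apply_evalEquiv_symm_apply]

end Transpose

section EndP

variable (R : Type u) [CommRing R]
    (P : Type v) [AddCommGroup P] [Module R P] [Module.Finite R P] [Module.Projective R P]

instance finite_end : Module.Finite R (Module.End R P) :=
  Module.Finite.equiv (dualTensorHomEquiv R P P)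

instance projective_end : Module.Projective R (Module.End R P) :=
  Module.Projective.of_equiv (dualTensorHomEquiv R P P)

/-- the transpose as a map on the opposite algebra -/
noncomputable def tau : (Module.End R P)ᵐᵒᵖ →ₗ[R] Module.End R (Module.Dual R P) :=
  (Module.Dual.transpose (R := R) (M := P) (M' := P)) ∘ₗ
    (opLinearEquiv R (M := Module.End R P)).symm.toLinearMap

theorem tau_bijective : Function.Bijective (tau R P) := by
  unfold tau
  rw [LinearMap.coe_comp]
  exact (transpose_bijective R P P).comp (opLinearEquiv R (M := Module.End R P)).symm.bijective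

/-- the comparison map -/
noncomputable def Psi :
    (Module.End R P) ⊗[R] (Module.End R P)ᵐᵒᵖ →ₗ[R] Module.End R (Module.End R P) :=
  ((dualTensorHomEquiv R P P).conj).toLinearMap ∘ₗ
    (TensorProduct.homTensorHomMap (.id R) (Module.Dual R P) P (Module.Dual R P) P) ∘ₗ
    (TensorProduct.map (tau R P) LinearMap.id) ∘ₗ
    (TensorProduct.comm R (Module.End R P) (Module.End R P)ᵐᵒᵖ).toLinearMap

theorem Psi_bijective : Function.Bijective (Psi R P) := by
  unfold Psi
  rw [LinearMap.coe_comp, LinearMap.coe_comp, LinearMap.coe_comp]
  refine (LinearEquiv.bijective _).comp (Function.Bijective.comp ?_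
    (Function.Bijective.comp ?_ (LinearEquiv.bijective _)))
  · rw [← homTensorHomEquiv_toLinearMap]
    exact (homTensorHomEquiv R (Module.Dual R P) P (Module.Dual R P) P).bijective
  · exact TensorProduct.map_bijective (tau_bijective R P) Function.bijective_id

theorem mulLeftRight_eq_Psi :
    (AlgHom.mulLeftRight R (Module.End R P)).toLinearMap = Psi R P := by
  apply TensorProduct.ext'
  intro f g
  apply LinearMap.ext
  intro x
  obtain ⟨z, rfl⟩ := (dualTensorHomEquiv R P P).surjective x
  induction z using TensorProduct.induction_on with
  | zero => simp
  | add a b ha hb => rw [map_add, map_add, map_add, ha, hb]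
  | tmul φ p =>
    ext y
    simp [Psi, tau, LinearEquiv.conj_apply, Module.Dual.transpose_apply]

theorem endP [FaithfulSMul R P] : IsAzumaya R (Module.End R P) := by
  have hf : FaithfulSMul R (Module.End R P) := by
    rw [faithfulSMul_iff_algebraMap_injective]
    intro r s hrs
    apply FaithfulSMul.eq_of_smul_eq_smul (α := P)
    intro p
    have := congrArg (fun F : Module.End R P => F p) hrs
    simpa [Algebra.algebraMap_eq_smul_one] using this
  refine ⟨?_⟩
  have := Psi_bijective R P
  rw [← mulLeftRight_eq_Psi] at this
  exact this

end EndP

end Groth.Agent.Helper7.Azumaya
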